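import Mathlib

/-!
# Divided power envelopes by generators and universally valid relations
-/

set_option autoImplicit false
set_option linter.style.haveILetI false

universe u

namespace Groth.Agent.DPEnv

variable {A B : Type u} [CommRing A] [CommRing B] [Algebra A B] {I : Ideal A}
  (γ : DividedPowers I) (J : Ideal B)

/-- Formal expressions in elements of `B` and formal divided powers. -/
inductive Expr (B : Type u) : Type u
  | of : B → Expr B
  | add : Expr B → Expr B → Expr B
  | mul : Expr B → Expr B → Expr B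
  | dp : ℕ → Expr B → Expr B

/-- Test data for the universal property. -/
structure Test : Type (u + 1) where
  C : Type u
  [ring : CommRing C]
  [alg : Algebra A C]
  K : Ideal C
  δ : DividedPowers K
  hγ : γ.IsDPMorphism δ (algebraMap A C)
  ψ : B →ₐ[A] C
  hψ : J.map ψ ≤ K

attribute [instance] Test.ring Test.alg

variable {γ J}

/-- Evaluation of an expression. -/
noncomputable def Test.ev (T : Test γ J) : Expr B → T.C
  | .of b => T.ψ b
  | .add e f => T.ev e + T.ev f
  | .mul e f => T.ev e * T.ev f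
  | .dp n e => T.δ.dpow n (T.ev e)

variable (γ J)

/-- Polynomials in expressions which vanish under every evaluation. -/
def rel : Ideal (MvPolynomial (Expr B) ℤ) where
  carrier := {P | ∀ T : Test γ J, MvPolynomial.aeval T.ev P = 0}
  zero_mem' := fun T => map_zero _
  add_mem' := fun {a b} ha hb T => by rw [map_add, ha T, hb T, add_zero]
  smul_mem' := fun c a ha T => by rw [smul_eq_mul, map_mul, ha T, mul_zero]

/-- The big ring. -/
abbrev Big : Type u := MvPolynomial (Expr B) ℤ ⧸ rel γ J

variable {γ J}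

/-- Evaluation on the big ring. -/
noncomputable def Test.evD (T : Test γ J) : Big γ J →+* T.C :=
  Ideal.Quotient.lift _ (MvPolynomial.aeval T.ev).toRingHom fun _ h => h T

@[simp]
theorem Test.evD_X (T : Test γ J) (e : Expr B) :
    T.evD (Ideal.Quotient.mk _ (MvPolynomial.X e)) = T.ev e := by
  simp [Test.evD]

theorem big_ext {x y : Big γ J} (h : ∀ T : Test γ J, T.evD x = T.evD y) : x = y := by
  obtain ⟨p, rfl⟩ := Ideal.Quotient.mk_surjective x
  obtain ⟨q, rfl⟩ := Ideal.Quotient.mk_surjective y
  rw [Ideal.Quotient.eq]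
  intro T
  have := h T
  simp only [Test.evD, Ideal.Quotient.lift_mk, AlgHom.toRingHom_eq_coe, RingHom.coe_coe] at this
  rw [map_sub, this, sub_self]

theorem exists_expr (x : Big γ J) : ∃ e : Expr B, x = Ideal.Quotient.mk _ (MvPolynomial.X e) := by
  obtain ⟨p, rfl⟩ := Ideal.Quotient.mk_surjective x
  suffices ∃ e : Expr B, ∀ T : Test γ J, MvPolynomial.aeval T.ev p = T.ev e by
    obtain ⟨e, he⟩ := this
    exact ⟨e, big_ext fun T => by rw [Test.evD_X, ← he T]; simp [Test.evD]⟩
  induction p using MvPolynomial.induction_on with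
  | C a => exact ⟨.of (a : B), fun T => by simp [Test.ev]⟩
  | add p q hp hq =>
    obtain ⟨e, he⟩ := hp
    obtain ⟨f, hf⟩ := hq
    exact ⟨.add e f, fun T => by rw [map_add, he T, hf T]; rfl⟩
  | mul_X p i hp =>
    obtain ⟨e, he⟩ := hp
    exact ⟨.mul e i, fun T => by rw [map_mul, he T, MvPolynomial.aeval_X]; rfl⟩

variable (γ J)

/-- The map from `B`. -/
noncomputable def ι : B →+* Big γ J where
  toFun b := Ideal.Quotient.mk _ (MvPolynomial.X (.of b))
  map_one' := big_ext fun T => by simp [Test.ev]
  map_mul' a b := big_ext fun T => by simp [Test.ev]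
  map_zero' := big_ext fun T => by simp [Test.ev]
  map_add' a b := big_ext fun T => by simp [Test.ev]

/-- The big ideal. -/
def JD : Ideal (Big γ J) where
  carrier := {x | ∀ T : Test γ J, T.evD x ∈ T.K}
  zero_mem' := fun T => by rw [map_zero]; exact zero_mem _
  add_mem' := fun {a b} ha hb T => by rw [map_add]; exact add_mem (ha T) (hb T)
  smul_mem' := fun c a ha T => by rw [smul_eq_mul, map_mul]; exact T.K.mul_mem_left _ (ha T)

/-- Divided powers on representatives. -/
noncomputable def bigPow (n : ℕ) (x : Big γ J) : Big γ J :=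
  Ideal.Quotient.mk _ (MvPolynomial.X (.dp n (exists_expr x).choose))

theorem evD_bigPow (T : Test γ J) (n : ℕ) (x : Big γ J) :
    T.evD (bigPow γ J n x) = T.δ.dpow n (T.evD x) := by
  conv_rhs => rw [(exists_expr x).choose_spec, Test.evD_X]
  rw [bigPow, Test.evD_X]
  rfl

/-- Subrings containing `B` and closed under divided powers of the ideal. -/
def closedSubrings : Set (Subring (Big γ J)) :=
  {S | (∀ b, ι γ J b ∈ S) ∧ ∀ x ∈ S, x ∈ JD γ J → ∀ n, bigPow γ J n x ∈ S}

/-- The envelope. -/
noncomputable def envS : Subring (Big γ J) := sInf (closedSubrings γ J)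

theorem envS_mem : envS γ J ∈ closedSubrings γ J :=
  ⟨fun b => Subring.mem_sInf.mpr fun S hS => hS.1 b,
   fun x hx hxJ n => Subring.mem_sInf.mpr fun S hS => hS.2 x (Subring.mem_sInf.mp hx S hS) hxJ n⟩

/-- The ideal of the envelope. -/
noncomputable def envJ : Ideal (envS γ J) := (JD γ J).comap (envS γ J).subtype

/-- The evaluation on the envelope. -/
noncomputable def evS (T : Test γ J) : envS γ J →+* T.C := T.evD.comp (envS γ J).subtype

theorem env_ext {x y : envS γ J} (h : ∀ T : Test γ J, evS γ J T x = evS γ J T y) : x = y :=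
  Subtype.ext (big_ext h)

theorem evS_mem {x : envS γ J} (hx : x ∈ envJ γ J) (T : Test γ J) : evS γ J T x ∈ T.K := hx T

open scoped Classical in
/-- Divided powers on the envelope. -/
noncomputable def envPow (n : ℕ) (x : envS γ J) : envS γ J :=
  if h : x ∈ envJ γ J then ⟨bigPow γ J n x.1, (envS_mem γ J).2 x.1 x.2 h n⟩ else 0

theorem evS_envPow {x : envS γ J} (hx : x ∈ envJ γ J) (T : Test γ J) (n : ℕ) :
    evS γ J T (envPow γ J n x) = T.δ.dpow n (evS γ J T x) := by
  rw [envPow, dif_pos hx]
  exact evD_bigPow γ J T n x.1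

/-- The divided power structure. -/
noncomputable def envDP : DividedPowers (envJ γ J) where
  dpow := envPow γ J
  dpow_null hx := dif_neg hx
  dpow_zero hx := env_ext γ J fun T => by
    rw [evS_envPow γ J hx, T.δ.dpow_zero (evS_mem γ J hx T), map_one]
  dpow_one hx := env_ext γ J fun T => by
    rw [evS_envPow γ J hx, T.δ.dpow_one (evS_mem γ J hx T)]
  dpow_mem {n x} hn hx := fun T => by
    change evS γ J T (envPow γ J n x) ∈ T.K
    rw [evS_envPow γ J hx]
    exact T.δ.dpow_mem hn (evS_mem γ J hx T)
  dpow_add {n x y} hx hy := env_ext γ J fun T => by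
    rw [evS_envPow γ J (add_mem hx hy), map_add, T.δ.dpow_add (evS_mem γ J hx T) (evS_mem γ J hy T), map_sum]
    refine Finset.sum_congr rfl fun k _ => ?_
    rw [map_mul, evS_envPow γ J hx, evS_envPow γ J hy]
  dpow_mul {n a x} hx := env_ext γ J fun T => by
    rw [evS_envPow γ J (Ideal.mul_mem_left _ a hx), map_mul, T.δ.dpow_mul (evS_mem γ J hx T), map_mul, map_pow,
      evS_envPow γ J hx]
  mul_dpow {m n x} hx := env_ext γ J fun T => by
    rw [map_mul, evS_envPow γ J hx, evS_envPow γ J hx, T.δ.mul_dpow (evS_mem γ J hx T), map_mul, map_natCast,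
      evS_envPow γ J hx]
  dpow_comp {m n x} hn hx := env_ext γ J fun T => by
    have hmem : envPow γ J n x ∈ envJ γ J := fun T' => by
      change evS γ J T' (envPow γ J n x) ∈ T'.K
      rw [evS_envPow γ J hx]
      exact T'.δ.dpow_mem hn (evS_mem γ J hx T')
    rw [evS_envPow γ J hmem, evS_envPow γ J hx, T.δ.dpow_comp hn (evS_mem γ J hx T), map_mul, map_natCast,
      evS_envPow γ J hx]

/-- The map from `B` to the envelope. -/
noncomputable def envι : B →+* envS γ J := (ι γ J).codRestrict (envS γ J) (envS_mem γ J).1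

theorem evS_envι (T : Test γ J) (b : B) : evS γ J T (envι γ J b) = T.ψ b := Test.evD_X T (.of b)

theorem exists_envelope (hIJ : I.map (algebraMap A B) ≤ J) :
    ∃ (D : Type u) (_ : CommRing D) (_ : Algebra B D) (JD : Ideal D) (γD : DividedPowers JD),
      J.map (algebraMap B D) ≤ JD ∧
      γ.IsDPMorphism γD ((algebraMap B D).comp (algebraMap A B)) ∧
      ∀ (C : Type u) [CommRing C] [Algebra A C] (K : Ideal C) (δ : DividedPowers K),
        γ.IsDPMorphism δ (algebraMap A C) →
        ∀ ψ : B →ₐ[A] C, J.map ψ ≤ K →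
          ∃! χ : D →+* C, χ.comp (algebraMap B D) = ψ ∧ γD.IsDPMorphism δ χ := by
  letI : Algebra B (envS γ J) := (envι γ J).toAlgebra
  have hJ : J.map (algebraMap B (envS γ J)) ≤ envJ γ J := Ideal.map_le_iff_le_comap.mpr fun b hb T => by
    change evS γ J T (envι γ J b) ∈ T.K
    rw [evS_envι]
    exact T.hψ (Ideal.mem_map_of_mem _ hb)
  refine ⟨envS γ J, inferInstance, inferInstance, envJ γ J, envDP γ J, hJ, ⟨?_, ?_⟩, ?_⟩
  · rw [← Ideal.map_map]
    exact (Ideal.map_mono hIJ).trans hJ
  · intro n a ha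
    refine env_ext γ J fun T => ?_
    change evS γ J T (envPow γ J n (envι γ J (algebraMap A B a))) = evS γ J T (envι γ J (algebraMap A B (γ.dpow n a)))
    have hmem : envι γ J (algebraMap A B a) ∈ envJ γ J :=
      hJ (Ideal.mem_map_of_mem _ (hIJ (Ideal.mem_map_of_mem _ ha)))
    rw [evS_envPow γ J hmem, evS_envι, evS_envι, T.ψ.commutes, T.ψ.commutes]
    exact T.hγ.dpow_comp a ha
  · intro C _ _ K δ hγ ψ hψ
    let T : Test γ J := ⟨C, K, δ, hγ, ψ, hψ⟩
    refine ⟨evS γ J T, ⟨RingHom.ext fun b => evS_envι γ J T b, ⟨?_, ?_⟩⟩, ?_⟩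
    · exact Ideal.map_le_iff_le_comap.mpr fun x hx => evS_mem γ J hx T
    · intro n x hx
      exact (evS_envPow γ J hx T n).symm
    · rintro χ ⟨hχ, hdp⟩
      let S : Subring (Big γ J) := (RingHom.eqLocus χ (evS γ J T)).map (envS γ J).subtype
      have hS : envS γ J ≤ S := by
        refine sInf_le ⟨fun b => ?_, ?_⟩
        · refine ⟨envι γ J b, ?_, rfl⟩
          change χ (envι γ J b) = evS γ J T (envι γ J b)
          rw [evS_envι]
          exact RingHom.congr_fun hχ b
        · rintro _ ⟨y, hy, rfl⟩ hyJ n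
          refine ⟨envPow γ J n y, ?_, ?_⟩
          · change χ (envPow γ J n y) = evS γ J T (envPow γ J n y)
            rw [evS_envPow γ J hyJ, ← show χ y = evS γ J T y from hy]
            exact (hdp.dpow_comp y hyJ).symm
          · rw [envPow, dif_pos (show y ∈ envJ γ J from hyJ)]
            rfl
      refine RingHom.ext fun x => ?_
      obtain ⟨y, hy, hyx⟩ := hS x.2
      rw [← Subtype.ext hyx]
      exact hy

end Groth.Agent.DPEnv
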